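import Cfsg.Agent.H373.CV.Base
import Cfsg.Agent.H350.Spec.PslCov
import Cfsg.Agent.H199.Cyc.LfPsl

/-!
# S3442, cross characteristic, `PSL_n(q)`, `n ≥ 4` (helper360)

* `hit_of_frob` : the tool for Frobenius groups `U⟨c⟩`;
* `exists_free` : for every prime `r` there is an element `x` of prime order `≠ r` with `r * o(x)` no element order;
* `hit_psl` : `Hit r (PSL_n(F))`, `n ≥ 4`, `r` not the characteristic.
-/

set_option autoImplicit false
set_option linter.unusedSectionVars false

namespace Cfsg.Agent.H360.CV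

open Finset Cfsg Cfsg.Agent.H371.Frob Cfsg.Agent.H373.CV Cfsg.Agent.H373.Recog Cfsg.Agent.H350.PslCov
open Cfsg.Agent.H350.PslOut

universe u v

/-- **Frobenius groups.** -/
theorem hit_of_frob {L : Type v} [Group L] [Finite L] [IsSimpleGroup L] {r : ℕ} (hr : r.Prime) {U : Subgroup L} {c : L}
    (hU : U ≠ ⊥) (hcop : (Nat.card U).Coprime r) (hn : ∀ a ∈ U, c * a * c⁻¹ ∈ U)
    (hfix : ∀ i, 0 < i → i < orderOf c → ∀ a ∈ U, c ^ i * a = a * c ^ i → a = 1)
    (hc : ∀ y : L, orderOf y ≠ r * orderOf c) {x₀ : L} (h0 : ¬ r ∣ orderOf x₀) (hx₀ : ∀ y : L, orderOf y ≠ r * orderOf x₀) :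
    Hit.{u, v} r L := by
  classical
  intro W _ _ _ hW φ
  by_cases hnorm : ∀ w : Multiplicative W, ∏ i ∈ range (orderOf c), mact φ (c ^ i) w = 1
  · have htriv := trivial_of_norm (mact φ) U (c := c) (e := r) (orderOf_pos c) (by
        intro a ha i
        have h1 : ∀ a ∈ U, ∀ i : ℕ, c ^ i * a * (c ^ i)⁻¹ ∈ U := by
          intro a ha i
          induction i with
          | zero => simpa using ha
          | succ i ih =>
            have h1 := hn _ ih
            convert h1 using 1
            rw [pow_succ']; group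
        have h2 : (c ^ i)⁻¹ = c ^ ((orderOf c - 1) * i) := by
          rw [inv_eq_iff_mul_eq_one, ← pow_add]
          have h3 : i + (orderOf c - 1) * i = orderOf c * i := by
            have := orderOf_pos c
            obtain ⟨m, hm⟩ : ∃ m, orderOf c = m + 1 := ⟨orderOf c - 1, by omega⟩
            rw [hm, Nat.add_sub_cancel]; ring
          rw [h3, pow_mul, pow_orderOf_eq_one, one_pow]
        have h3 := h1 a ha ((orderOf c - 1) * i)
        rwa [← h2, inv_inv] at h3) hfix (fun w => by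
        change Multiplicative.ofAdd (r • w.toAdd) = 1
        rw [hW]; rfl) hcop hnorm
    have hker : φ.ker = ⊤ := by
      rcases IsSimpleGroup.eq_bot_or_eq_top_of_normal φ.ker inferInstance with h | h
      · exfalso
        apply hU
        rw [eq_bot_iff]
        intro u hu
        have h2 : u ∈ φ.ker := by
          rw [MonoidHom.mem_ker]
          apply AddMonoidHom.ext
          intro w
          exact htriv u hu (Multiplicative.ofAdd w)
        rwa [h] at h2
      · exact h
    obtain ⟨w, hw⟩ := exists_ne (0 : W)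
    refine ⟨x₀, w, sum_ne_zero_of_fixed hr hW φ hw (x := x₀) ?_ h0, hx₀⟩
    have h1 : x₀ ∈ φ.ker := by rw [hker]; trivial
    rw [MonoidHom.mem_ker] at h1
    rw [h1]; rfl
  · push Not at hnorm
    obtain ⟨w, hw⟩ := hnorm
    rw [mact_prod] at hw
    exact ⟨c, w.toAdd, fun h => hw (by rw [h]; rfl), hc⟩

variable {F : Type v} [Field F] [Fintype F] {n : ℕ}

section free

open Cfsg.Agent.H199.Cyc Cfsg.Agent.H403 Cfsg.Agent.H403.NumTop

/-- **an element of prime order which is not joined to `r`** -/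
theorem exists_free (hn : 4 ≤ n) (hex : 3 ≤ Fintype.card F ∨ (n ≠ 6 ∧ n ≠ 7)) {r : ℕ} (hr : r.Prime) :
    ∃ x : Matrix.ProjectiveSpecialLinearGroup (Fin n) F, ¬ r ∣ orderOf x ∧
      ∀ y : Matrix.ProjectiveSpecialLinearGroup (Fin n) F, orderOf y ≠ r * orderOf x := by
  have hF := card_true (F := F) (q := Fintype.card F) rfl
  have hL := lin_true (F := F) (n := n) (by omega)
  have h : IsL (Matrix.ProjectiveSpecialLinearGroup (Fin n) F) true n (Fintype.card F) F := ⟨MulEquiv.refl _⟩
  have hq : 2 ≤ Fintype.card F := Fintype.one_lt_card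
  obtain ⟨a, ha, -, hi⟩ := exists_prime (e := true) hq (i := n) (by omega) (by
    rintro (⟨-, h3, h4⟩ | ⟨h3, -⟩)
    · omega
    · exact absurd h3 (by simp))
  obtain ⟨b, hb, -, hi'⟩ := exists_prime (e := true) hq (i := n - 1) (by omega) (by
    rintro (⟨-, h3, h4⟩ | ⟨h3, -⟩)
    · omega
    · exact absurd h3 (by simp))
  have helt : ∀ {s i : ℕ}, s.Prime → orderOf ((xv true (Fintype.card F) : ℤ) : ZMod s) = i → (i = n ∨ i = n - 1) →
      ∃ g : Matrix.ProjectiveSpecialLinearGroup (Fin n) F, orderOf g = s := by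
    intro s i hs hsi hin
    exact h.exists_tor hF (by omega) hin hs.pos
      ((Nat.Prime.coprime_iff_not_dvd hs).2 (not_dvd_AA_one (by omega) hsi (by omega)))
      (by rw [dvd_AA_iff (by omega), ← hsi]; exact pow_orderOf_eq_one _)
  have hab : a ≠ b := by
    rintro rfl
    omega
  have hnr : ¬ ∃ g : Matrix.ProjectiveSpecialLinearGroup (Fin n) F, orderOf g = a * b :=
    hL.not_adj hF (by omega) ha hb hi hi' (by omega) (by omega) (by omega)
    (lt_lcm (by omega) (by omega) (by omega) (by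
      intro h
      have h5 : n - 1 ∣ n - (n - 1) := Nat.dvd_sub h dvd_rfl
      rw [show n - (n - 1) = 1 by omega] at h5
      have := Nat.le_of_dvd one_pos h5
      omega))
  have key : ∀ s i : ℕ, s.Prime → orderOf ((xv true (Fintype.card F) : ℤ) : ZMod s) = i → (i = n ∨ i = n - 1) → r ≠ s →
      (¬ ∃ g : Matrix.ProjectiveSpecialLinearGroup (Fin n) F, orderOf g = r * s) →
      ∃ x : Matrix.ProjectiveSpecialLinearGroup (Fin n) F, ¬ r ∣ orderOf x ∧
        ∀ y : Matrix.ProjectiveSpecialLinearGroup (Fin n) F, orderOf y ≠ r * orderOf x := by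
    intro s i hs hsi hin hrs hno
    obtain ⟨x, hx⟩ := helt hs hsi hin
    refine ⟨x, ?_, fun y hy => hno ⟨y, by rw [hy, hx]⟩⟩
    rw [hx]
    exact fun h1 => hrs ((Nat.prime_dvd_prime_iff_eq hr hs).1 h1)
  by_cases hra : r = a
  · subst hra
    exact key b _ hb hi' (Or.inr rfl) hab hnr
  by_cases hrb : r = b
  · subst hrb
    exact key a _ ha hi (Or.inl rfl) hra (by rwa [mul_comm] at hnr)
  by_cases hr2 : r = 2
  · subst hr2
    rcases exists_na true (n := n) (q := Fintype.card F) hn with hna | hna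
    · exact key a _ ha hi (Or.inl rfl) hra (hL.not_two hF hn hna ha hi)
    · exact key b _ hb hi' (Or.inr rfl) hrb (hL.not_two hF hn hna hb hi')
  · by_cases hadj : ∃ g : Matrix.ProjectiveSpecialLinearGroup (Fin n) F, orderOf g = a * r
    · exact key b _ hb hi' (Or.inr rfl) hrb (by
        have h1 := not_both hL hF hn ha hb hr hr2 hi hi' hadj
        rwa [mul_comm] at h1)
    · exact key a _ ha hi (Or.inl rfl) hra (by rwa [mul_comm] at hadj)

end free

/-- **`PSL_n(F)`, `n ≥ 4`, cross characteristic.** -/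
theorem hit_psl' (hn : 4 ≤ n) (hex : 3 ≤ Fintype.card F ∨ (n ≠ 6 ∧ n ≠ 7)) {r : ℕ} (hr : r.Prime)
    (hrF : ¬ r ∣ Fintype.card F) : Hit.{u, v} r (Matrix.ProjectiveSpecialLinearGroup (Fin n) F) := by
  classical
  have hsimp := Cfsg.Agent.S0249.result (F := F) n (by omega)
  have hq1 : 1 < Fintype.card F := Fintype.one_lt_card
  obtain ⟨U, c, hc, hU, hn', hfix⟩ := Cfsg.Agent.H350.PslFrob.frob_psl (F := F) (n := n) (by omega)
  obtain ⟨x₀, h0, hx₀⟩ := exists_free (F := F) hn hex hr
  obtain ⟨w, hw, -, hwo⟩ := Cfsg.Agent.H403.NumTop.exists_prime (e := true) (q := Fintype.card F) hq1 (i := n - 1)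
    (by omega) (by
      rintro (⟨-, h3, h4⟩ | ⟨h3, -⟩)
      · omega
      · exact absurd h3 (by simp))
  have hwo' : orderOf ((Fintype.card F : ℕ) : ZMod w) = n - 1 := by
    have h1 : orderOf (((Fintype.card F : ℤ) : ℤ) : ZMod w) = n - 1 := hwo
    rwa [Int.cast_natCast] at h1
  refine hit_of_frob hr (U := U) (c := c) ?_ ?_ hn' hfix ?_ h0 hx₀
  · intro hbot
    rw [hbot, Subgroup.card_bot] at hU
    have := Nat.one_lt_pow (n := n - 1) (by omega) hq1
    omega
  · rw [hU]
    exact Nat.Coprime.pow_left _ ((Nat.Prime.coprime_iff_not_dvd hr).2 hrF).symm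
  · intro y hy
    set d := Nat.gcd n (Fintype.card F - 1) with hd
    have hdd : d ∣ Fintype.card F ^ (n - 1) - 1 :=
      (Nat.gcd_dvd_right _ _).trans (Nat.sub_one_dvd_pow_sub_one _ _)
    have hmul : orderOf c * d = Fintype.card F ^ (n - 1) - 1 := by rw [hc, Nat.div_mul_cancel hdd]
    have hwq : w ∣ Fintype.card F ^ (n - 1) - 1 := by
      rw [← hwo']
      rw [Cfsg.Agent.Lib.Zsigmondy.dvd_pow_sub_one_iff (by omega)]
    have hw1 := not_dvd_of_index (F := F) (by omega) hwo'
    have hwc : w ∣ orderOf c := by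
      rw [← hmul] at hwq
      refine (hw.dvd_mul.1 hwq).resolve_right fun h => hw1 (h.trans (Nat.gcd_dvd_right _ _))
    have h3 := pred (F := F) (n := n) (by omega) hw hwo' y (by rw [hy]; exact hwc.mul_left _)
    rw [hy, ← hd, mul_assoc, hmul] at h3
    have h5 : 0 < Fintype.card F ^ (n - 1) - 1 := by
      have := Nat.one_lt_pow (n := n - 1) (by omega) hq1
      omega
    have h6 := Nat.le_of_dvd h5 h3
    have := hr.two_le
    nlinarith

/-- **X1: `PSL_n(F)`, `n ≥ 4`, cross characteristic** (`q = 2`, `n = 6, 7` excluded; these groups are recognised). -/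
theorem hit_psl {F : Type v} [Field F] [Fintype F] {p : ℕ} [Fact p.Prime] [CharP F p] {n : ℕ} (hn : 4 ≤ n)
    (hex : 3 ≤ Fintype.card F ∨ (n ≠ 6 ∧ n ≠ 7)) {r : ℕ} (hr : r.Prime) (hrp : r ≠ p) :
    Hit.{u, v} r (Matrix.ProjectiveSpecialLinearGroup (Fin n) F) := by
  refine hit_psl' hn hex hr fun h => hrp ?_
  obtain ⟨k, -, hk⟩ := FiniteField.card F p
  rw [hk] at h
  exact (Nat.prime_dvd_prime_iff_eq hr Fact.out).1 (hr.dvd_of_dvd_pow h)

end Cfsg.Agent.H360.CV
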